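import Mathlib
import Groth.Agent.Lib.Helper1.PtCount

/-!
# Counting the points of a geometric fibre over a closed point (helper7)

For a `k`-scheme `X` locally of finite type and a closed point `x`, the number of points of
`X ×ₖ Ω` (`Ω` algebraically closed) lying over `x` is the separable degree `[κ(x) : k]ₛ`.
-/

set_option linter.style.haveILetI false
set_option linter.unusedVariables false
set_option linter.unusedSectionVars false
set_option autoImplicit false
set_option backward.isDefEq.respectTransparency.types false
set_option synthInstance.maxHeartbeats 400000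
set_option maxHeartbeats 1600000

universe u

open AlgebraicGeometry CategoryTheory CategoryTheory.Limits TensorProduct

namespace Groth.Agent.Helper7.PtFib

variable {k : Type u} [Field k] {X : Scheme.{u}} (p : X ⟶ Spec (CommRingCat.of k))

/-- structure map of the residue field over `k` -/
noncomputable def resAlg (x : X) : CommRingCat.of k ⟶ X.residueField x :=
  Spec.preimage (X.fromSpecResidueField x ≫ p)

theorem map_resAlg (x : X) : Spec.map (resAlg p x) = X.fromSpecResidueField x ≫ p :=
  Spec.map_preimage _

theorem finite_resAlg [LocallyOfFiniteType p] (x : X) (hx : IsClosed ({x} : Set X)) :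
    (resAlg p x).hom.Finite := by
  have hfin : IsFinite (X.fromSpecResidueField x ≫ p) := by
    rw [isClosed_singleton_iff_isClosedImmersion] at hx
    rw [isFinite_iff_locallyOfFiniteType_of_jacobsonSpace]
    infer_instance
  rw [← map_resAlg, IsFinite.SpecMap_iff] at hfin
  exact hfin

theorem resAlg_comp {Y : Scheme.{u}} (q : Y ⟶ Spec (CommRingCat.of k)) (φ : X ⟶ Y) (hφ : φ ≫ q = p)
    (x : X) : resAlg q (φ x) ≫ φ.residueFieldMap x = resAlg p x := by
  apply Spec.map_injective
  rw [Spec.map_comp, map_resAlg, map_resAlg, ← Category.assoc,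
    Scheme.Hom.SpecMap_residueFieldMap_fromSpecResidueField, Category.assoc, hφ]

/-- the number of points of the geometric fibre over a closed point -/
theorem encard_fiber (Ω : Type u) [Field Ω] [Algebra k Ω] [IsAlgClosed Ω] [LocallyOfFiniteType p]
    (x : X) (hx : IsClosed ({x} : Set X)) :
    letI : Algebra k (X.residueField x) := (resAlg p x).hom.toAlgebra
    ((pullback.fst p (Spec.map (CommRingCat.ofHom (algebraMap k Ω)))).base ⁻¹' {x}).encard =
      (Field.finSepDegree k (X.residueField x) : ℕ∞) := by
  letI : Algebra k (X.residueField x) := (resAlg p x).hom.toAlgebra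
  haveI : Module.Finite k (X.residueField x) := finite_resAlg p x hx
  haveI : Algebra.IsAlgebraic k (X.residueField x) := Algebra.IsAlgebraic.of_finite k _
  obtain ⟨i, hi⟩ : ∃ i : Spec (CommRingCat.of Ω) ⟶ Spec (CommRingCat.of k),
      i = Spec.map (CommRingCat.ofHom (algebraMap k Ω)) := ⟨_, rfl⟩
  rw [← hi]
  obtain ⟨π, hπ⟩ : ∃ π : pullback p i ⟶ X, π = pullback.fst p i := ⟨_, rfl⟩
  rw [← hπ]
  have hψ : X.fromSpecResidueField x ≫ p =
      Spec.map (CommRingCat.ofHom (algebraMap k (X.residueField x))) := by
    rw [← map_resAlg]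
    rfl
  let e1 : π.fiber x ≅ pullback (X.fromSpecResidueField x) π := pullbackSymmetry _ _
  let e2 : pullback (X.fromSpecResidueField x) π ≅ pullback (X.fromSpecResidueField x ≫ p) i :=
    (pullback.congrHom rfl hπ) ≪≫ pullbackRightPullbackFstIso p i (X.fromSpecResidueField x)
  let e3 : pullback (X.fromSpecResidueField x ≫ p) i ≅
      pullback (Spec.map (CommRingCat.ofHom (algebraMap k (X.residueField x))))
        (Spec.map (CommRingCat.ofHom (algebraMap k Ω))) := pullback.congrHom hψ hi
  let e4 := pullbackSpecIso k (X.residueField x) Ω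
  let E : π.fiber x ≅ Spec (CommRingCat.of ((X.residueField x) ⊗[k] Ω)) := e1 ≪≫ e2 ≪≫ e3 ≪≫ e4
  have c1 : ENat.card ↥(π.base ⁻¹' {x}) = ENat.card ↥(π.fiber x) :=
    ENat.card_congr (π.fiberHomeo x).symm.toEquiv
  have c2 : ENat.card ↥(π.fiber x) = ENat.card (PrimeSpectrum ((X.residueField x) ⊗[k] Ω)) :=
    ENat.card_congr E.hom.homeomorph.toEquiv
  have c3 : ENat.card (PrimeSpectrum ((X.residueField x) ⊗[k] Ω)) =
      ENat.card (PrimeSpectrum (Ω ⊗[k] (X.residueField x))) :=
    ENat.card_congr (PrimeSpectrum.comapEquiv
      (Algebra.TensorProduct.comm k (X.residueField x) Ω).toRingEquiv).toEquiv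
  haveI : IsArtinianRing (Ω ⊗[k] (X.residueField x)) := IsArtinianRing.of_finite Ω _
  rw [Set.encard, c1, c2, c3, ENat.card_eq_coe_natCard,
    Groth.Agent.Helper1.PtCount.card_primeSpectrum_tensor k (X.residueField x) Ω,
    ← Field.finSepDegree_eq_of_isAlgClosed k (X.residueField x) Ω]

section Main

variable [PerfectField k] {Y : Scheme.{u}} (sX : X ⟶ Spec (CommRingCat.of k))
  (sY : Y ⟶ Spec (CommRingCat.of k))

theorem main [LocallyOfFiniteType sX] [LocallyOfFiniteType sY] (φ : X ⟶ Y) (hφ : φ ≫ sY = sX)
    [IsFinite φ] (Ω : Type u) [Field Ω] [Algebra k Ω] [IsAlgClosed Ω]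
    (φbar : pullback sX (Spec.map (CommRingCat.ofHom (algebraMap k Ω))) ⟶
      pullback sY (Spec.map (CommRingCat.ofHom (algebraMap k Ω))))
    (h1 : φbar ≫ pullback.fst sY (Spec.map (CommRingCat.ofHom (algebraMap k Ω))) =
      pullback.fst sX (Spec.map (CommRingCat.ofHom (algebraMap k Ω))) ≫ φ)
    (x : X) (hx : IsClosed ({x} : Set X)) :
    ((pullback.fst sY (Spec.map (CommRingCat.ofHom (algebraMap k Ω)))).base ⁻¹' {φ.base x}).encard ≤
        ((pullback.fst sX (Spec.map (CommRingCat.ofHom (algebraMap k Ω)))).base ⁻¹' {x}).encard ∧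
      (((pullback.fst sY (Spec.map (CommRingCat.ofHom (algebraMap k Ω)))).base ⁻¹' {φ.base x}).encard =
          ((pullback.fst sX (Spec.map (CommRingCat.ofHom (algebraMap k Ω)))).base ⁻¹' {x}).encard ↔
          Function.Bijective (φ.residueFieldMap x).hom) ∧
      (Set.InjOn φbar.base
          ((pullback.fst sX (Spec.map (CommRingCat.ofHom (algebraMap k Ω)))).base ⁻¹' {x}) →
        ((pullback.fst sY (Spec.map (CommRingCat.ofHom (algebraMap k Ω)))).base ⁻¹' {φ.base x}).encard =
          ((pullback.fst sX (Spec.map (CommRingCat.ofHom (algebraMap k Ω)))).base ⁻¹' {x}).encard) := by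
  have hy : IsClosed ({φ x} : Set Y) := by
    have := φ.isClosedMap _ hx
    rwa [Set.image_singleton] at this
  letI a1 : Algebra k (X.residueField x) := (resAlg sX x).hom.toAlgebra
  letI a2 : Algebra k (Y.residueField (φ x)) := (resAlg sY (φ x)).hom.toAlgebra
  letI a3 : Algebra (Y.residueField (φ x)) (X.residueField x) := (φ.residueFieldMap x).hom.toAlgebra
  haveI tw : IsScalarTower k (Y.residueField (φ x)) (X.residueField x) :=
    IsScalarTower.of_algebraMap_eq' (by
      have h0 := resAlg_comp sX sY φ hφ x
      show (resAlg sX x).hom = (φ.residueFieldMap x).hom.comp (resAlg sY (φ x)).hom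
      rw [← h0]
      rfl)
  haveI : Module.Finite k (X.residueField x) := finite_resAlg sX x hx
  haveI : Module.Finite k (Y.residueField (φ x)) := finite_resAlg sY (φ x) hy
  haveI : Algebra.IsAlgebraic k (X.residueField x) := Algebra.IsAlgebraic.of_finite k _
  haveI : Algebra.IsAlgebraic (Y.residueField (φ x)) (X.residueField x) :=
    Algebra.IsAlgebraic.tower_top (K := k) _
  haveI : Module.Finite (Y.residueField (φ x)) (X.residueField x) :=
    Module.Finite.of_restrictScalars_finite k _ _
  haveI : Algebra.IsSeparable k (X.residueField x) :=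
    Algebra.IsAlgebraic.isSeparable_of_perfectField
  haveI : Algebra.IsSeparable (Y.residueField (φ x)) (X.residueField x) :=
    Algebra.isSeparable_tower_top_of_isSeparable k _ _
  have hmul := Field.finSepDegree_mul_finSepDegree_of_isAlgebraic k (Y.residueField (φ x))
    (X.residueField x)
  have hd : Field.finSepDegree (Y.residueField (φ x)) (X.residueField x) =
      Module.finrank (Y.residueField (φ x)) (X.residueField x) :=
    Field.finSepDegree_eq_finrank_of_isSeparable _ _
  have hX : ((pullback.fst sX (Spec.map (CommRingCat.ofHom (algebraMap k Ω)))).base ⁻¹' {x}).encard =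
      (Field.finSepDegree k (X.residueField x) : ℕ∞) := encard_fiber sX Ω x hx
  have hY : ((pullback.fst sY (Spec.map (CommRingCat.ofHom (algebraMap k Ω)))).base ⁻¹' {φ.base x}).encard =
      (Field.finSepDegree k (Y.residueField (φ x)) : ℕ∞) := encard_fiber sY Ω (φ x) hy
  have hNy : 0 < Field.finSepDegree k (Y.residueField (φ x)) := Nat.pos_of_ne_zero (NeZero.ne _)
  have hdpos : 0 < Field.finSepDegree (Y.residueField (φ x)) (X.residueField x) :=
    Nat.pos_of_ne_zero (NeZero.ne _)
  have hle : Field.finSepDegree k (Y.residueField (φ x)) ≤ Field.finSepDegree k (X.residueField x) := by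
    rw [← hmul]
    exact Nat.le_mul_of_pos_right _ hdpos
  have hbij : Function.Bijective (φ.residueFieldMap x).hom ↔
      Module.finrank (Y.residueField (φ x)) (X.residueField x) = 1 := by
    rw [← Subalgebra.bot_eq_top_iff_finrank_eq_one, eq_comm, ← Algebra.surjective_algebraMap_iff]
    constructor
    · intro h
      exact h.2
    · intro h
      exact ⟨(algebraMap (Y.residueField (φ x)) (X.residueField x)).injective, h⟩
  have first : ((pullback.fst sY (Spec.map (CommRingCat.ofHom (algebraMap k Ω)))).base ⁻¹' {φ.base x}).encard ≤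
      ((pullback.fst sX (Spec.map (CommRingCat.ofHom (algebraMap k Ω)))).base ⁻¹' {x}).encard := by
    rw [hX, hY]
    exact_mod_cast hle
  refine ⟨first, ?_, ?_⟩
  · rw [hX, hY, hbij, ← hd]
    constructor
    · intro h
      have h' : Field.finSepDegree k (Y.residueField (φ x)) = Field.finSepDegree k (X.residueField x) := by
        exact_mod_cast h
      rw [← hmul] at h'
      exact Nat.eq_of_mul_eq_mul_left hNy (by rw [mul_one]; exact h'.symm)
    · intro h
      rw [← hmul, h, mul_one]
  · intro hinj
    refine le_antisymm first ?_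
    refine Set.encard_le_encard_of_injOn ?_ hinj
    intro z hz
    have hz' : (pullback.fst sX (Spec.map (CommRingCat.ofHom (algebraMap k Ω)))).base z = x := hz
    have h3 : (pullback.fst sY (Spec.map (CommRingCat.ofHom (algebraMap k Ω)))).base (φbar.base z) =
        φ.base ((pullback.fst sX (Spec.map (CommRingCat.ofHom (algebraMap k Ω)))).base z) := by
      rw [← Scheme.Hom.comp_apply, ← Scheme.Hom.comp_apply, h1]
    show (pullback.fst sY (Spec.map (CommRingCat.ofHom (algebraMap k Ω)))).base (φbar.base z) = φ.base x
    rw [h3, hz']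

end Main

end Groth.Agent.Helper7.PtFib
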